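import Cfsg.Agent.MathieuTwo.Data23
import Cfsg.Agent.MathieuCover.Inst
set_option autoImplicit false
set_option maxRecDepth 20000
set_option Elab.async false

/-!
Certificate data excluding prime covers of M23 (found by a computer search, checked by the kernel).
-/

namespace CfsgLib.MathieuCover.C23

open CfsgLib.Golay CfsgLib.MathieuTwo CfsgLib.MathieuOut

/-- The fixed masks. -/
def fixd : List ℕ := [8388608]

/-- The presentation. -/
def pres : Pres where
  n := 7
  rows := [([], 1),
    ([6], 0),
    ([], 16),
    ([3], 0),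
    ([4], 0),
    ([], 512),
    ([], 2),
    ([5, 6], 32),
    ([], 1024),
    ([], 16384),
    ([5], 0),
    ([], 64),
    ([], 2048),
    ([6], 32768),
    ([], 262144),
    ([], 4),
    ([], 128),
    ([6], 4096),
    ([], 65536),
    ([], 524288),
    ([], 2097152),
    ([], 8),
    ([], 256),
    ([], 8192),
    ([], 131072),
    ([], 1048576),
    ([], 4194304),
    ([], 8388608)]
  defs := [none, none, none, some (0, 2), some (1, 2), some (0, 4), some (0, 1)]
  tails := [(0, 0), (0, 3), (0, 5), (0, 6), (1, 1), (1, 3), (1, 4), (1, 5), (1, 6), (2, 2), (2, 3), (2, 4), (2, 5), (2, 6), (3, 3), (3, 4), (3, 5), (3, 6), (4, 4), (4, 5), (4, 6), (5, 5), (5, 6), (6, 6)]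

/-- The equations. -/
def eqns : List Eqn := [.assoc [1] [0, 0] [],
  .assoc [1] [1, 0] [],
  .assoc [2] [0, 0] [],
  .assoc [2] [1, 0] [],
  .assoc [2] [1, 1] [],
  .assoc [2] [2, 0] [],
  .assoc [2] [2, 1] [],
  .assoc [3] [1, 0] [],
  .assoc [3] [1, 1] [],
  .assoc [3] [2, 1] [],
  .assoc [3] [3, 1] [],
  .assoc [4] [0, 0] [],
  .assoc [4] [1, 0] [],
  .assoc [4] [2, 0] [],
  .assoc [4] [3, 0] [],
  .assoc [4] [3, 1] [],
  .assoc [4] [3, 2] [],
  .assoc [4] [3, 3] [],
  .fus 0 [[1], [6], [1, 5], [1, 4]] [[1, 4, 5, 6], [1, 4, 6], [4, 6], [4, 5]] [([], [1, 1])],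
  .fus 0 [[1], [6], [1, 5], [1, 4]] [[1, 4, 5, 6], [1, 4, 6], [4, 6], [4, 5]] [([0, 2], [2, 0])],
  .fus 1 [[0, 5], [3, 4, 6], [0, 4, 6], [1, 4, 5, 6]] [[0, 6], [1, 3, 5], [0, 1, 6], [4]] [([0, 3, 1], [1, 0, 3])],
  .fus 2 [[2, 3], [2]] [[2, 3], [4, 5]] [([0, 1], [1, 0])],
  .fus 2 [[2, 3], [2]] [[2, 3], [4, 5]] [([], [1, 1])],
  .fus 3 [[0, 3, 5, 6], [0, 3, 4], [0, 1, 3, 5, 6]] [[2, 3], [2, 3, 4, 6], [1, 2, 3, 4, 6]] [([], [0, 0])]]

/-- The certificate. -/
def split : Split where
  P := pres
  fuel := 55
  eqs := eqns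
  combos := [[2, 4, 5, 9, 10, 11, 12, 13, 14, 15, 16, 17, 19, 22, 23], [2, 4, 5, 6, 7, 8, 9, 11, 14, 16, 19, 21], [0, 8, 9, 11, 12, 13, 14, 15, 16, 17], [0, 8, 9, 10, 12, 13, 15, 16], [0, 4, 8, 10, 12, 14, 17, 18], [1, 7, 8, 20], [7, 8, 9, 11, 13, 14, 16, 19], [0, 1, 7, 8, 11, 17], [1, 8, 9, 10, 12, 13, 15, 16], [4, 9, 10, 12, 13, 15, 16, 19, 22], [4, 6, 7, 8, 9, 11, 14, 16, 19, 21], [4, 6, 7, 8, 9, 11, 13, 14, 16, 19], [3, 7, 10, 12, 13, 16, 17, 20], [16], [4, 5, 6, 7, 8, 9, 11, 14, 16, 19, 21], [0, 3, 7, 8, 9, 13, 14, 15, 20], [0, 7, 10, 11], [8, 9, 10, 12, 13, 15, 16, 17], [4, 7, 8, 9, 11, 13, 14, 16, 19], [0, 7, 9, 10, 11, 13, 16, 17], [0, 1, 9, 13, 14, 15, 16, 17], [0, 8, 9, 12, 13, 14, 15, 16, 17], [7, 8, 9, 11, 12, 13, 14, 15, 16], [8, 9, 10, 12, 13, 15, 16]]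

/-- The generators. -/
def cs : List ℕ := [967812279691448225500382947153381408, 979290025217126392513577224938563712, 981778414018989552837717935419131953, 981818691054096003685363657089320992, 973968420574796809057970364740646176, 967528743129250142307004454690461120, 981616150452815826097002658071151680]

/-- The fusing elements. -/
def gs : List ℕ := [984689924605131195594000912653488544, 969195434502278882876592139316234705, 984469557167556592391262043461881106, 958653931885389827677000550614050247]

/-- Words for the generators of the Sylow subgroup. -/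
def Sw : List (List ℕ) := [[0, 1, 4, 5, 6], [0, 2], [2, 4, 6]]

theorem split_ok : splitOk fixd split cs gs D23.gens Sw = true := by decide +kernel

/-- An element of order 5. -/
def x5 : ℕ := 962736385217380828718048864580863360

theorem x5_ok : primeOk fixd 5 x5 = true := by decide +kernel

/-- An element of order 7. -/
def x7 : ℕ := 978237555407926724419570279328907599

theorem x7_ok : primeOk fixd 7 x7 = true := by decide +kernel

/-- An element of order 11. -/
def x11 : ℕ := 958769035715927151276756967362303510

theorem x11_ok : primeOk fixd 11 x11 = true := by decide +kernel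

/-- An element of order 23. -/
def x23 : ℕ := 975321782446367422902666915737908437

theorem x23_ok : primeOk fixd 23 x23 = true := by decide +kernel

/-- A basis of the Sylow 3-subgroup. -/
def u : ℕ := 971430031949426965269055887811654944

/-- The second element. -/
def v : ℕ := 964941464594019058911413365503467840

/-- Its elements. -/
def tree3 : STree := (.node (.node (.node (.node .nil 956948372962062737777549252619700352 1 971430031949426965269055887811654944 2 .nil) 961028283555582404902783088605072064 1 967924286070125892107494022661584352 4 .nil) 964941464594019058911413365503467840 1 984818244535754528103549039458486304 1 (.node .nil 967924286070125892107494022661584352 1 973806203385234833057669003211808992 3 .nil)) 969239529932345271158593579269038528 1 956948372962062737777549252619700352 3 (.node (.node (.node .nil 971430031949426965269055887811654944 0 984818244535754528103549039458486304 1 .nil) 973806203385234833057669003211808992 0 971430031949426965269055887811654944 2 .nil) 975123250965355999374098247049622912 1 964941464594019058911413365503467840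 2 (.node .nil 984818244535754528103549039458486304 0 0 0 .nil)))

theorem tree3_ok : groupOk fixd [dec u, dec v] tree3 (3 ^ 2) = true := by decide +kernel

theorem uv_ok : elsOk fixd [u, v] = true := by decide +kernel

theorem act_ok : actOk fixd u v 973905753552103319218766696187795504 2 1 = true := by decide +kernel

end CfsgLib.MathieuCover.C23
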